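import Groth.Agent.Lib.FunFld.Gen.Bound
import Mathlib.RingTheory.Valuation.Discrete.IsDiscreteValuationRing
import Mathlib.RingTheory.Valuation.LocalSubring
import Mathlib.RingTheory.DiscreteValuationRing.TFAE

/-! Places of a function field are the nontrivial valuation rings containing `k`; existence. -/

namespace Groth.Agent.Lib.FunFld.Gen.Existence

open IntermediateField IsLocalRing WithZero
open Groth.Agent.Lib.FunFld.Place Groth.Agent.Lib.FunFld.Gen.Bound
open Groth.Agent.Lib.FunFld.Bound (transcendental_inv ne_zero_of_transcendental not_mem_range_of_transcendental)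

universe u v
variable {k : Type u} {K : Type v} [Field k] [Field K] [Algebra k K]

theorem transcendental_of_mem_nonunits {V : ValuationSubring K}
    (hk : ∀ c : k, algebraMap k K c ∈ V) {x : K} (hx0 : x ≠ 0) (hx : x ∈ V.nonunits) :
    Transcendental k x := by
  intro halg
  let ak : k →+* V := (algebraMap k K).codRestrict V hk
  let _ : Algebra k V := ak.toAlgebra
  have : IsScalarTower k V K := IsScalarTower.of_algebraMap_eq fun _ => rfl
  rcases (ValuationSubring.mem_nonunits_iff_or _).mp hx with h | h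
  · exact hx0 h
  · have hint : IsIntegral k x⁻¹ := halg.inv.isIntegral
    have hmem : IsIntegral V x⁻¹ := hint.tower_top
    obtain ⟨y, hy⟩ := IsIntegrallyClosed.algebraMap_eq_of_integral hmem
    exact h (hy ▸ y.2)

theorem transcendental_of_ord_ne_zero
    (P : _root_.FunFld.Place k K) {x : K} (hx : P.ord x ≠ 0) : Transcendental k x := by
  intro halg
  have hx0 : x ≠ 0 := by rintro rfl; simp at hx
  rcases lt_or_gt_of_ne hx with h | h
  · refine transcendental_of_mem_nonunits (V := P.O) P.2.1 (inv_ne_zero hx0) ?_ halg.inv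
    rw [ValuationSubring.mem_nonunits_iff_or, inv_inv]
    exact Or.inr fun hm => absurd ((val_le_one_iff P).mp hm) (by omega)
  · refine transcendental_of_mem_nonunits (V := P.O) P.2.1 hx0 ?_ halg
    rw [ValuationSubring.mem_nonunits_iff_or]
    refine Or.inr fun hm => absurd ((val_le_one_iff P).mp hm) ?_
    rw [ord_inv]; omega

theorem transcendental_unif (P : _root_.FunFld.Place k K) :
    Transcendental k (unif P) :=
  transcendental_of_ord_ne_zero P (by rw [ord_eq_of_val_eq_exp P (val_unif P)]; norm_num)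

theorem isNoetherianRing_valuationSubring (hK : IsFF k K)
    (V : ValuationSubring K) (hk : ∀ c : k, algebraMap k K c ∈ V) : IsNoetherianRing V := by
  let ak : k →+* V := (algebraMap k K).codRestrict V hk
  let _ : Algebra k V := ak.toAlgebra
  have : IsScalarTower k V K := IsScalarTower.of_algebraMap_eq fun _ => rfl
  rw [isNoetherianRing_iff_ideal_fg]
  intro I
  rcases eq_or_ne I ⊤ with rfl | hI
  · exact ⟨{1}, by simp⟩
  rcases eq_or_ne I ⊥ with rfl | hI0
  · exact Submodule.fg_bot
  obtain ⟨a, haI, ha0⟩ := Submodule.exists_mem_ne_zero_of_ne_bot hI0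
  have ha : (a : K) ≠ 0 := fun h => ha0 (Subtype.ext h)
  have hanu : (a : K) ∈ V.nonunits :=
    ValuationSubring.coe_mem_nonunits_iff.mpr (IsLocalRing.le_maximalIdeal hI haI)
  have hx := transcendental_of_mem_nonunits hk ha hanu
  let emb : V →ₗ[k] K := (IsScalarTower.toAlgHom k V K).toLinearMap
  have hinj : Function.Injective emb := Subtype.val_injective
  let M : Submodule k K := LinearMap.range emb
  have hM : ∀ m ∈ M, (a : K) * m ∈ M := by
    rintro _ ⟨m, rfl⟩; exact ⟨a * m, rfl⟩
  let J : Ideal V := Ideal.span {a}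
  let f : M →ₗ[k] V ⧸ J :=
    (Ideal.Quotient.mkₐ k J).toLinearMap ∘ₗ (LinearEquiv.ofInjective emb hinj).symm.toLinearMap
  have hf : Function.Surjective f :=
    (Ideal.Quotient.mkₐ_surjective k J).comp (LinearEquiv.ofInjective emb hinj).symm.surjective
  have hker : ∀ m : M, f ⟨(a : K) * m, hM m m.2⟩ = 0 := by
    rintro ⟨_, m, rfl⟩
    have : (LinearEquiv.ofInjective emb hinj).symm ⟨(a : K) * emb m, hM _ ⟨m, rfl⟩⟩ = a * m := by
      rw [LinearEquiv.symm_apply_eq]; exact Subtype.ext rfl
    simp only [f, LinearMap.comp_apply, LinearEquiv.coe_coe, AlgHom.toLinearMap_apply]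
    rw [this]
    exact Ideal.Quotient.eq_zero_iff_mem.mpr (Ideal.mul_mem_right _ _ (Ideal.mem_span_singleton_self a))
  have hfin := (finite_and_finrank_le_of_surjective hK hx M hM f hf hker).1
  let Ik : Submodule k (V ⧸ J) := (I.map (Ideal.Quotient.mk J)).restrictScalars k
  obtain ⟨s, hs⟩ := (IsNoetherian.noetherian Ik : Ik.FG)
  have hmap : (I.map (Ideal.Quotient.mk J)).FG := by
    refine ⟨s, le_antisymm (Ideal.span_le.mpr fun z hz => ?_) fun z hz => ?_⟩
    · exact (SetLike.ext_iff.mp hs z).mp (Submodule.subset_span hz)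
    · have hz' : z ∈ Submodule.span k (s : Set (V ⧸ J)) := hs.symm ▸ hz
      exact Submodule.span_le_restrictScalars k (V ⧸ J) _ hz'
  obtain ⟨t, ht⟩ := hmap
  classical
  choose g hg using Ideal.Quotient.mk_surjective (I := J)
  refine ⟨insert a (t.image g), le_antisymm (Ideal.span_le.mpr ?_) fun z hz => ?_⟩
  · intro z hz
    rcases Finset.mem_insert.mp hz with rfl | hz
    · exact haI
    · obtain ⟨y, hy, rfl⟩ := Finset.mem_image.mp hz
      have : y ∈ I.map (Ideal.Quotient.mk J) := ht ▸ Submodule.subset_span hy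
      rw [← hg y] at this
      rw [Ideal.mem_map_iff_of_surjective _ Ideal.Quotient.mk_surjective] at this
      obtain ⟨w, hw, hwy⟩ := this
      have hle : J ≤ I := (Ideal.span_singleton_le_iff_mem _).mpr haI
      have := hle (Ideal.Quotient.eq.mp hwy.symm)
      simpa using I.add_mem this hw
  · have h1 : Ideal.Quotient.mk J z ∈ (Ideal.span (g '' t)).map (Ideal.Quotient.mk J) := by
      rw [Ideal.map_span, ← Set.image_comp]
      have : (Ideal.Quotient.mk J ∘ g) = id := funext hg
      rw [this, Set.image_id]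
      exact (congrArg (fun L => Ideal.Quotient.mk J z ∈ L) ht).mpr (Ideal.mem_map_of_mem _ hz)
    rw [← Ideal.mem_comap, Ideal.comap_map_of_surjective _ Ideal.Quotient.mk_surjective,
      ← RingHom.ker_eq_comap_bot, Ideal.mk_ker] at h1
    rw [Finset.coe_insert, Finset.coe_image, Ideal.span_insert, sup_comm]
    exact h1

theorem isDiscreteValuationRing_valuationSubring (hK : IsFF k K)
    (V : ValuationSubring K) (hk : ∀ c : k, algebraMap k K c ∈ V) (hV : V ≠ ⊤) :
    IsDiscreteValuationRing V := by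
  have := isNoetherianRing_valuationSubring hK V hk
  have hnf : ¬ IsField V := by
    intro h
    refine hV (top_unique fun x _ => ?_)
    rcases V.mem_or_inv_mem x with h' | h'
    · exact h'
    rcases eq_or_ne x 0 with rfl | hx
    · exact V.zero_mem
    obtain ⟨y, hy⟩ := h.mul_inv_cancel (a := (⟨x⁻¹, h'⟩ : V))
      fun h0 => inv_ne_zero hx (congrArg Subtype.val h0)
    have : x⁻¹ * (y : K) = 1 := congrArg Subtype.val hy
    have hyx : (y : K) = x := by simpa [hx] using congrArg (x * ·) this
    exact hyx ▸ y.2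
  exact ((IsDiscreteValuationRing.TFAE V hnf).out 1 0 rfl rfl).mp (inferInstanceAs (ValuationRing V))

theorem exists_place_of_valuationSubring (hK : IsFF k K)
    (V : ValuationSubring K) (hk : ∀ c : k, algebraMap k K c ∈ V) (hV : V ≠ ⊤) :
    ∃ P : _root_.FunFld.Place k K, P.O = V := by
  have := isDiscreteValuationRing_valuationSubring hK V hk hV
  let 𝔭 := IsDiscreteValuationRing.maximalIdeal V
  have hle : ∀ x : K, 𝔭.valuation K x ≤ 1 ↔ x ∈ V := fun x =>
    ⟨fun h => by obtain ⟨a, rfl⟩ := IsDiscreteValuationRing.exists_lift_of_le_one h; exact a.2,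
     fun h => 𝔭.valuation_le_one (⟨x, h⟩ : V)⟩
  exact ⟨⟨𝔭.valuation K, fun c => (hle _).mpr (hk c), 𝔭.valuation_surjective K⟩,
    SetLike.ext fun x => hle x⟩

theorem exists_place_nonunits (hK : IsFF k K) (A : Subalgebra k K) (I : Ideal A)
    (hI : I ≠ ⊤) (hI0 : I ≠ ⊥) :
    ∃ P : _root_.FunFld.Place k K, (∀ a ∈ A, P.1 a ≤ 1) ∧ ∀ a : A, a ∈ I → P.1 (a : K) < 1 := by
  obtain ⟨V, hAV, hIV⟩ := Ideal.image_subset_nonunits_valuationSubring (A := A.toSubring) I hI
  have hVtop : V ≠ ⊤ := by
    obtain ⟨a, haI, ha0⟩ := Submodule.exists_mem_ne_zero_of_ne_bot hI0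
    rintro rfl
    rcases (ValuationSubring.mem_nonunits_iff_or _).mp (hIV ⟨a, haI, rfl⟩) with h | h
    · exact ha0 (Subtype.ext h)
    · exact h (ValuationSubring.mem_top _)
  obtain ⟨P, hP⟩ := exists_place_of_valuationSubring hK V
    (fun c => hAV (A.algebraMap_mem c)) hVtop
  have hO : ∀ x, P.1 x ≤ 1 ↔ x ∈ V := fun x => SetLike.ext_iff.mp hP x
  refine ⟨P, fun a ha => (hO a).mpr (hAV ha), fun a ha => ?_⟩
  rcases (ValuationSubring.mem_nonunits_iff_or _).mp (hIV ⟨a, ha, rfl⟩) with h | h
  · change (a : K) = 0 at h; simp [h]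
  · change (a : K)⁻¹ ∉ V at h
    rw [← hO, map_inv₀, not_le] at h
    exact one_lt_inv_iff₀.mp h |>.2

theorem exists_zero (hK : IsFF k K) {x : K} (hx : Transcendental k x) :
    ∃ P : _root_.FunFld.Place k K, 0 < P.ord x := by
  let A := Algebra.adjoin k ({x} : Set K)
  let xA : A := ⟨x, Algebra.subset_adjoin rfl⟩
  have hI : Ideal.span ({xA} : Set A) ≠ ⊤ := by
    intro h
    rw [Ideal.span_singleton_eq_top, isUnit_iff_exists_inv] at h
    obtain ⟨⟨y, hy⟩, hxy⟩ := h
    simp only [A, Algebra.adjoin_singleton_eq_range_aeval] at hy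
    obtain ⟨p, rfl⟩ := (AlgHom.mem_range _).mp hy
    refine hx ⟨Polynomial.X * p - 1, fun h0 => ?_, ?_⟩
    · have h1 := congrArg (Polynomial.eval 0) h0
      simp at h1
    · have : x * Polynomial.aeval x p = 1 := congrArg Subtype.val hxy
      simp [this]
  have hI0 : Ideal.span ({xA} : Set A) ≠ ⊥ := by
    rw [Ne, Ideal.span_singleton_eq_bot]
    exact fun h => ne_zero_of_transcendental hx (congrArg Subtype.val h)
  obtain ⟨P, -, h2⟩ := exists_place_nonunits hK A _ hI hI0
  exact ⟨P, (ord_pos_iff P).mpr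
    ⟨ne_zero_of_transcendental hx, h2 xA (Ideal.mem_span_singleton_self _)⟩⟩

theorem exists_pole (hK : IsFF k K) {x : K} (hx : Transcendental k x) :
    ∃ P : _root_.FunFld.Place k K, P.ord x < 0 := by
  obtain ⟨P, hP⟩ := exists_zero hK (transcendental_inv hx)
  rw [ord_inv] at hP
  exact ⟨P, by omega⟩

theorem finiteDimensional_residueField (hK : IsFF k K)
    (P : _root_.FunFld.Place k K) : FiniteDimensional k (ResidueField P.O) := by
  let emb : P.O →ₗ[k] K := (IsScalarTower.toAlgHom k P.O K).toLinearMap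
  have hinj : Function.Injective emb := Subtype.val_injective
  have hM : ∀ m ∈ LinearMap.range emb, unif P * m ∈ LinearMap.range emb := by
    rintro _ ⟨m, rfl⟩
    refine ⟨⟨unif P * (m : K), ?_⟩, rfl⟩
    rw [mem_O_iff, map_mul]
    exact mul_le_one' (by rw [val_unif, ← exp_zero, exp_le_exp]; norm_num) m.2
  refine (finite_and_finrank_le_of_surjective hK (transcendental_unif P) _ hM
    (resLin P ∘ₗ (LinearEquiv.ofInjective emb hinj).symm.toLinearMap)
    ((IsLocalRing.residue_surjective).comp (LinearEquiv.ofInjective emb hinj).symm.surjective)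
    ?_).1
  rintro ⟨_, m, rfl⟩
  simp only [LinearMap.comp_apply, LinearEquiv.coe_coe, resLin_apply, res_eq_zero_iff]
  have : (((LinearEquiv.ofInjective emb hinj).symm
      ⟨unif P * emb m, hM _ ⟨m, rfl⟩⟩ : P.O) : K) = unif P * m :=
    congrArg Subtype.val ((LinearEquiv.ofInjective emb hinj).apply_symm_apply
      ⟨unif P * emb m, hM _ ⟨m, rfl⟩⟩)
  rw [this, map_mul]
  exact mul_lt_one_of_lt_of_le (by rw [val_unif, ← exp_zero, exp_lt_exp]; norm_num) m.2

theorem deg_pos (hK : IsFF k K) (P : _root_.FunFld.Place k K) : 0 < P.deg := by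
  have := finiteDimensional_residueField hK P
  exact Module.finrank_pos

end Groth.Agent.Lib.FunFld.Gen.Existence
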