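import Groth.Agent.Lib.FunFld.Bound
import Mathlib.FieldTheory.IntermediateField.Adjoin.Basic
import Mathlib.RingTheory.AlgebraicIndependent.TranscendenceBasis
import Mathlib.RingTheory.AlgebraicIndependent.AlgebraicClosure
import Mathlib.RingTheory.AlgebraicIndependent.Transcendental

/-! Finiteness of `K` over `k(x)` and the basic dimension bound by `[K : k(x)]`. -/

namespace Groth.Agent.Lib.FunFld.Gen.Bound

open IntermediateField Polynomial
open Groth.Agent.Lib.FunFld.Bound (linearIndependent_adjoin_of_mod)

universe u v w
variable {k : Type u} {K : Type v} [Field k] [Field K] [Algebra k K]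

/-- `K/k` is finitely generated of transcendence degree one (constants need not be closed in `K`). -/
def IsFF (k : Type u) (K : Type v) [Field k] [Field K] [Algebra k K] : Prop :=
  ∃ x : K, Transcendental k x ∧ FiniteDimensional (IntermediateField.adjoin k ({x} : Set K)) K


theorem trdeg_le_one (hK : IsFF k K) : Algebra.trdeg k K ≤ 1 := by
  obtain ⟨x₀, hx₀, hfin⟩ := hK
  have : Algebra.IsAlgebraic (Algebra.adjoin k ({x₀} : Set K)) K :=
    IntermediateField.isAlgebraic_adjoin_iff_top.mp inferInstance
  simpa using Algebra.IsAlgebraic.trdeg_le_cardinalMk k ({x₀} : Set K)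

theorem isAlgebraic_adjoin (hK : IsFF k K) {x : K} (hx : Transcendental k x) :
    Algebra.IsAlgebraic (adjoin k ({x} : Set K)) K := by
  have hb : IsTranscendenceBasis k ![x] :=
    AlgebraicIndependent.isTranscendenceBasis_of_lift_trdeg_le_of_finite
      (algebraicIndependent_iff_transcendental.mpr hx) (by simpa using trdeg_le_one hK)
  have := hb.isAlgebraic_field
  rwa [Matrix.range_cons, Matrix.range_empty, Set.union_empty] at this

theorem exists_finite_adjoin_eq_top (hK : IsFF k K) :
    ∃ S : Set K, S.Finite ∧ adjoin k S = ⊤ := by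
  obtain ⟨x₀, hx₀, hfin⟩ := hK
  let b := Module.finBasis (adjoin k ({x₀} : Set K)) K
  refine ⟨{x₀} ∪ Set.range b, (Set.finite_singleton _).union (Set.finite_range _), ?_⟩
  rw [eq_top_iff]
  intro y _
  rw [← b.sum_repr y]
  refine sum_mem fun i _ => ?_
  rw [IntermediateField.smul_def, smul_eq_mul]
  refine mul_mem ?_ (subset_adjoin k _ (Or.inr ⟨i, rfl⟩))
  exact adjoin.mono k _ _ Set.subset_union_left (b.repr y i).2

theorem finiteDimensional_adjoin_transcendental (hK : IsFF k K) {x : K}
    (hx : Transcendental k x) : FiniteDimensional (adjoin k ({x} : Set K)) K := by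
  have := isAlgebraic_adjoin hK hx
  obtain ⟨S, hS, htop⟩ := exists_finite_adjoin_eq_top hK
  have : Finite S := hS.to_subtype
  have hfd := IntermediateField.finiteDimensional_adjoin (K := adjoin k ({x} : Set K)) (S := S)
    (fun s _ => (Algebra.IsAlgebraic.isAlgebraic s).isIntegral)
  have htop' : adjoin (adjoin k ({x} : Set K)) S = ⊤ := by
    rw [eq_top_iff]
    intro y _
    have hy : y ∈ adjoin k S := htop ▸ mem_top
    have hle : adjoin k S ≤ (adjoin (adjoin k ({x} : Set K)) S).restrictScalars k :=
      adjoin_le_iff.mpr (subset_adjoin _ _)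
    exact hle hy
  rw [htop'] at hfd
  exact IntermediateField.topEquiv.toLinearEquiv.finiteDimensional

/-- The fundamental bound: a quotient of a `k[x]`-stable subspace of `K` killing `x • M` has
dimension at most `[K : k(x)]`. -/
theorem rank_le_of_surjective (hK : IsFF k K) {x : K} (hx : Transcendental k x)
    (M : Submodule k K) (hM : ∀ m ∈ M, x * m ∈ M) {V : Type w} [AddCommGroup V] [Module k V]
    (f : M →ₗ[k] V) (hf : Function.Surjective f) (hker : ∀ m : M, f ⟨x * m, hM m m.2⟩ = 0) :
    Module.rank k V ≤ (Module.finrank (adjoin k ({x} : Set K)) K : ℕ) := by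
  classical
  have := finiteDimensional_adjoin_transcendental hK hx
  refine rank_le fun s hs => ?_
  choose g hg using hf
  have hli : LinearIndependent (adjoin k ({x} : Set K)) (fun i : s => (g i : K)) := by
    refine linearIndependent_adjoin_of_mod hx M hM _ (fun i => (g i).2) fun c m hm heq => ?_
    have heq' : ∑ i : s, c i • g i = (⟨x * m, hM m hm⟩ : M) := by
      refine Subtype.ext ?_
      simpa using heq
    have h2 : ∑ i : s, c i • (i : V) = 0 := by
      have := congrArg f heq'
      rw [map_sum, hker ⟨m, hm⟩] at this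
      simpa [hg] using this
    exact funext fun i => Fintype.linearIndependent_iff.mp hs c h2 i
  simpa using hli.fintype_card_le_finrank

theorem finite_and_finrank_le_of_surjective (hK : IsFF k K) {x : K}
    (hx : Transcendental k x)
    (M : Submodule k K) (hM : ∀ m ∈ M, x * m ∈ M) {V : Type w} [AddCommGroup V] [Module k V]
    (f : M →ₗ[k] V) (hf : Function.Surjective f) (hker : ∀ m : M, f ⟨x * m, hM m m.2⟩ = 0) :
    FiniteDimensional k V ∧
      Module.finrank k V ≤ Module.finrank (adjoin k ({x} : Set K)) K := by
  have h := rank_le_of_surjective hK hx M hM f hf hker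
  exact ⟨Module.rank_lt_aleph0_iff.mp (h.trans_lt (Cardinal.natCast_lt_aleph0)),
    Module.finrank_le_of_rank_le h⟩

end Groth.Agent.Lib.FunFld.Gen.Bound
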