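import Groth.Agent.Lib.FunFld.Ext

/-! The fundamental equality over a field whose constants need not be algebraically closed. -/

namespace Groth.Agent.Lib.FunFld.Gen.Ramification

open WithZero IntermediateField
open Groth.Agent.Lib.FunFld Groth.Agent.Lib.FunFld.Place
open Groth.Agent.Lib.FunFld.Gen.Bound

universe u v w
variable {k : Type u} {K : Type v} {K' : Type w} [Field k] [Field K] [Field K']
  [Algebra k K] [Algebra K K'] [Algebra k K'] [IsScalarTower k K K'] [FiniteDimensional K K']

/-- A function whose only zero is at a given place. -/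
theorem exists_only_zero (hK : IsFF k K) (P : _root_.FunFld.Place k K) :
    ∃ z : K, Transcendental k z ∧ 0 < P.ord z ∧ ∀ R, R ≠ P → R.ord z ≤ 0 := by
  classical
  obtain ⟨t, ht⟩ := exists_val_eq_exp P 1
  have hordt : P.ord t = -1 := ord_eq_of_val_eq_exp P ht
  have htt : Transcendental k t := Gen.Existence.transcendental_of_ord_ne_zero P (by omega)
  obtain ⟨C, hC, hl⟩ := Gen.Degree.exists_finrank_mul_le_ell hK htt
  set c := _root_.FunFld.ell (0 : _root_.FunFld.Divisor k K)
  set B := Degree.poleDiv (k := k) t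
  set N := C.deg.toNat + c + 1
  have hBP : B P = 1 := by rw [Gen.Degree.poleDiv_apply hK, hordt]; rfl
  have hle : Finsupp.single P (N : ℤ) ≤ (N : ℤ) • B + C := fun R => by
    have h1 : 0 ≤ B R := by rw [Gen.Degree.poleDiv_apply hK]; exact le_max_right _ _
    have h2 := hC R
    rw [Finsupp.add_apply, Finsupp.smul_apply, smul_eq_mul]
    rcases eq_or_ne R P with rfl | hR
    · rw [Finsupp.single_eq_same, hBP, mul_one]
      simp only [Finsupp.coe_zero, Pi.zero_apply] at h2
      omega
    · rw [Finsupp.single_eq_of_ne hR]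
      exact add_nonneg (mul_nonneg (Int.natCast_nonneg N) h1) h2
  have h1 := Gen.Degree.ell_sub_ell_le hK hle
  rw [Degree.deg_single, Degree.deg_add, Degree.deg_smul, Gen.Degree.deg_poleDiv hK htt] at h1
  have h2 : ((N : ℤ) + 1) * Module.finrank (adjoin k ({t} : Set K)) K ≤
      _root_.FunFld.ell ((N : ℤ) • B + C) := by exact_mod_cast hl N
  have hdeg : (1 : ℤ) ≤ P.deg := by exact_mod_cast Gen.Existence.deg_pos hK P
  have h3 : (N : ℤ) * 1 ≤ N * P.deg := mul_le_mul_of_nonneg_left hdeg (Int.natCast_nonneg N)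
  have hell : c < _root_.FunFld.ell (Finsupp.single P (N : ℤ)) := by
    have hN : (N : ℤ) = C.deg.toNat + c + 1 := by simp [N]
    have h5 := Degree.deg_nonneg hC
    have h6 : (0 : ℤ) ≤ Module.finrank (adjoin k ({t} : Set K)) K := Int.natCast_nonneg _
    zify
    nlinarith [Int.toNat_of_nonneg h5]
  obtain ⟨x, hx, hx0⟩ : ∃ x ∈ _root_.FunFld.L (Finsupp.single P (N : ℤ)),
      x ∉ _root_.FunFld.L (0 : _root_.FunFld.Divisor k K) := by
    by_contra hc
    simp only [not_exists, not_and, not_not] at hc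
    have := Gen.Degree.finiteDimensional_L_zero hK
    exact hell.not_ge (Submodule.finrank_mono hc)
  have hne : x ≠ 0 := fun h => hx0 (h ▸ zero_mem _)
  rw [Degree.mem_L_iff_ord, or_iff_right hne] at hx hx0
  have hQ : ∀ Q, Q ≠ P → 0 ≤ Q.ord x := fun Q hQ => by
    have := hx Q; rw [Finsupp.single_eq_of_ne hQ] at this; omega
  have hneg : P.ord x < 0 := by
    by_contra hge
    refine hx0 fun Q => ?_
    simp only [Finsupp.coe_zero, Pi.zero_apply, neg_zero]
    rcases eq_or_ne Q P with rfl | h
    · omega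
    · exact hQ Q h
  refine ⟨x⁻¹, Groth.Agent.Lib.FunFld.Bound.transcendental_inv (Gen.Existence.transcendental_of_ord_ne_zero P (by omega)),
    by rw [ord_inv]; omega, fun R hR => ?_⟩
  rw [ord_inv]
  have := hQ R hR
  omega

theorem isFF_of_finite (hK : IsFF k K) : IsFF k K' := by
  obtain ⟨x, hx, hfin⟩ := hK
  refine ⟨algebraMap K K' x, Ext.transcendental_map hx, Module.finite_of_finrank_pos ?_⟩
  rw [Ext.finrank_adjoin_map]
  exact Nat.mul_pos Module.finrank_pos Module.finrank_pos

theorem sum_ramIdx_mul_deg (hK : IsFF k K) (P : _root_.FunFld.Place k K) :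
    ∃ hfin : {Q : _root_.FunFld.Place k K' | FunFld.IsOver Q P}.Finite,
      ∑ Q ∈ hfin.toFinset, FunFld.ramIdx Q P * Q.deg = Module.finrank K K' * P.deg := by
  classical
  obtain ⟨z, hz, hPz, hother⟩ := exists_only_zero hK P
  have hK' : IsFF k K' := isFF_of_finite hK
  have hz' : Transcendental k (algebraMap K K' z) := Ext.transcendental_map hz
  have hiff : ∀ Q : _root_.FunFld.Place k K', FunFld.IsOver Q P ↔ 0 < Q.ord (algebraMap K K' z) := by
    intro Q
    refine ⟨fun ⟨e, he⟩ => ?_, fun hQ => ?_⟩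
    · rw [Ext.ord_map he]
      exact mul_pos (by exact_mod_cast Ext.pos_of_isOverWith he) hPz
    · obtain ⟨R, e, he0, he⟩ := Ext.exists_place_below' hK Q
      rw [Ext.ord_map he] at hQ
      rcases eq_or_ne R P with rfl | hR
      · exact ⟨e, he⟩
      · have := mul_nonpos_of_nonneg_of_nonpos (Int.natCast_nonneg e) (hother R hR)
        omega
  have hfin : {Q : _root_.FunFld.Place k K' | FunFld.IsOver Q P}.Finite :=
    (Gen.Degree.finite_zeros hK' (algebraMap K K' z)).subset fun Q hQ => (hiff Q).mp hQ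
  refine ⟨hfin, ?_⟩
  have hdeg' := Gen.Degree.deg_zeroDiv hK' hz'
  rw [Ext.finrank_adjoin_map] at hdeg'
  have hdegK := Gen.Degree.deg_zeroDiv hK hz
  have hzD : Degree.zeroDiv (k := k) z = Finsupp.single P (P.ord z) := by
    ext R
    rw [Gen.Degree.zeroDiv_apply hK]
    rcases eq_or_ne R P with rfl | hR
    · rw [Finsupp.single_eq_same, max_eq_left hPz.le]
    · rw [Finsupp.single_eq_of_ne hR, max_eq_right (hother R hR)]
  rw [hzD, Degree.deg_single] at hdegK
  have hsum : (Degree.zeroDiv (k := k) (algebraMap K K' z)).deg =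
      ∑ Q ∈ hfin.toFinset, ((FunFld.ramIdx Q P : ℤ) * P.ord z) * (Q.deg : ℤ) := by
    have hsupp : (Degree.zeroDiv (k := k) (algebraMap K K' z)).support = hfin.toFinset := by
      ext Q
      rw [Finsupp.mem_support_iff, Gen.Degree.zeroDiv_apply hK', Set.Finite.mem_toFinset]
      change _ ↔ FunFld.IsOver Q P
      rw [hiff]
      omega
    rw [_root_.FunFld.Divisor.deg, Finsupp.sum, hsupp]
    refine Finset.sum_congr rfl fun Q hQ => ?_
    rw [Set.Finite.mem_toFinset] at hQ
    rw [Gen.Degree.zeroDiv_apply hK', max_eq_left ((hiff Q).mp hQ).le,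
      Ext.ord_map (Ext.isOverWith_ramIdx hQ)]
  rw [hdeg'] at hsum
  push_cast at hsum
  rw [← hdegK] at hsum
  have key : (P.ord z) * (Module.finrank K K' * P.deg : ℕ) =
      (P.ord z) * ((∑ Q ∈ hfin.toFinset, FunFld.ramIdx Q P * Q.deg : ℕ) : ℤ) := by
    push_cast
    rw [Finset.mul_sum]
    rw [show P.ord z * ((Module.finrank K K' : ℤ) * P.deg) =
      P.ord z * (P.deg : ℤ) * Module.finrank K K' by ring, hsum]
    exact Finset.sum_congr rfl fun Q _ => by ring
  exact (Nat.cast_injective (mul_left_cancel₀ (ne_of_gt hPz) key)).symm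

end Groth.Agent.Lib.FunFld.Gen.Ramification
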